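import Cfsg.Agent.Lib.Trans3.Spider.Collapse

/-! Generated coset enumeration certificate A4. -/

set_option autoImplicit false
set_option maxRecDepth 100000

namespace CfsgLib.Trans3.Spider.A4

open CfsgLib.InvChar.Coset

/-- facts -/
noncomputable def facts : Tr := (.leaf 0x5400005000053000050000520000500005100005000044000040000430000400004200004000034000030000330000300003000003000024000020000210000200002000002000012000010000110000100001000001000003000000000020000000000100000000000000000000500000400004100003000032000020000230000100001400000)
/-- justifications -/
noncomputable def just : Tr := (.leaf 0x400014000040040c004008000100004c00010010200100200004000120000400404004008000100000c0003c0000c000100100001004000030001100003004180040080000c000400000c010500100200003000020000d000020000300410004010000080003800008010800100200002000010000b00001000020041c0040100000800030000080201001002000010000000008000000000100424004010000040002800004020500100200001000090000100808004008000000001c0000002080010020000000006000000081800400800000000140000002030010028000c0000020002000000800040000020000000000)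
/-- relators -/
def rels : List (List ℕ) := [[0, 1, 0, 1, 0, 1], [0, 2, 0, 2], [0, 3, 0, 3], [0, 4, 0, 4], [1, 2, 1, 2, 1, 2], [1, 3, 1, 3], [1, 4, 1, 4], [2, 3, 2, 3, 2, 3], [2, 4, 2, 4], [3, 4, 3, 4, 3, 4], [0, 0], [1, 1], [2, 2], [3, 3], [4, 4]]
/-- subgroup words -/
def subs : List (List ℕ) := [[0], [1], [2], [3]]
/-- the local letters -/
def emb : List ℕ := [3, 2, 1, 0, 5]
/-- certificate -/
noncomputable def cert : Cert := ⟨5, 25, 5, facts, just, rels, subs⟩
/-- table -/
noncomputable def permTable : Tr := (.leaf 0x50000500005000050000400004000040000400003000050000300003000020000400003000020000100003000020000200000000020000100001000010000100000000000000000000)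
/-- node of a coset -/
noncomputable def live : Tr := (.leaf 0x50000400003000020000100000)
/-- fact of an entry -/
noncomputable def fin : Tr := (.leaf 0x18000170001600015000040001400013000120000300004000110001000002000030000f0000e00001000020000d0000c00000000010000b0000a000090000000008000070000600005)
/-- table -/
noncomputable def table : Table := ⟨6, 5, permTable⟩

end CfsgLib.Trans3.Spider.A4
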